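import Groth.Agent.Lib.Seesaw13.Locus
import Groth.Agent.Lib.CubeField.MumfordTriv

/-!
# Existence of the subscheme `K(L)`
-/

set_option autoImplicit false
set_option linter.style.haveILetI false
set_option linter.unusedSectionVars false
set_option backward.isDefEq.respectTransparency false

universe u

open CategoryTheory CategoryTheory.Limits MonoidalCategory CartesianMonoidalCategory AlgebraicGeometry
open scoped MonObj GrpObj

noncomputable section

namespace Groth.Agent.Seesaw13

noncomputable local instance instLawKL (Y : Scheme.{u}) : PicGrp.Law Y := M2.law Y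

variable {k : Type u} [Field k] {A : Over (Spec (CommRingCat.of k))}

theorem isPullback_whiskerLeft {T : Over (Spec (CommRingCat.of k))} (z : T ⟶ A) :
    IsPullback (A ◁ z).left (snd A T).left (snd A A).left z.left := by
  refine IsPullback.of_right ?_ (by rw [← Over.comp_left, whiskerLeft_snd, Over.comp_left])
    (IsPullback.of_hasPullback A.hom A.hom : IsPullback (fst A A).left (snd A A).left A.hom A.hom)
  have h : (A ◁ z).left ≫ (fst A A).left = (fst A T).left := by rw [← Over.comp_left, whiskerLeft_fst]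
  have h0 : IsPullback (fst A T).left (snd A T).left A.hom T.hom := IsPullback.of_hasPullback A.hom T.hom
  rw [← h, ← Over.w z] at h0
  exact h0

variable [GrpObj A] [IsProper A.hom] [GeometricallyIntegral A.hom] {L : A.left.Modules}

/-- `K(L)` exists. -/
theorem exists_isKL (hL : PicF.IsInvertible L) :
    ∃ (K : Over (Spec (CommRingCat.of k))) (i : K ⟶ A), ThetaGrp.IsKL A L i := by
  haveI : IsLocallyNoetherian A.left := LocallyOfFiniteType.isLocallyNoetherian A.hom
  let f : (A ⊗ A).left ⟶ A.left := (snd A A).left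
  haveI : IsProper f := inferInstanceAs (IsProper (pullback.snd A.hom A.hom))
  haveI : Flat A.hom := inferInstance
  haveI : Flat f := inferInstanceAs (Flat (pullback.snd A.hom A.hom))
  haveI : GeometricallyIntegral f := inferInstanceAs (GeometricallyIntegral (pullback.snd A.hom A.hom))
  let Λ : PicLoc.PicSet (A ⊗ A).left :=
    CubeField.P L hL (fst A A * snd A A) * (CubeField.P L hL (fst A A) * CubeField.P L hL (snd A A))⁻¹
  obtain ⟨N, hN, hΛ⟩ := PicGrp.exists_eq_cls Λ
  obtain ⟨I, hI⟩ := exists_idealSheaf f N hN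
  refine ⟨Over.mk (I.subschemeι ≫ A.hom), Over.homMk I.subschemeι rfl,
    ⟨inferInstanceAs (IsClosedImmersion I.subschemeι), fun T z => ?_⟩⟩
  have key : Good f N z.left ↔ ∃ M : T.left.Modules, PicF.IsInvertible M ∧
      Nonempty ((Scheme.Modules.pullback (A ◁ z).left).obj N ≅ (Scheme.Modules.pullback (snd A T).left).obj M) := by
    let j := (isPullback_whiskerLeft z).isoPullback
    have h1 : j.hom ≫ pullback.fst f z.left = (A ◁ z).left := IsPullback.isoPullback_hom_fst _
    have h2 : j.hom ≫ pullback.snd f z.left = (snd A T).left := IsPullback.isoPullback_hom_snd _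
    constructor
    · rintro ⟨M, hM, ⟨e⟩⟩
      exact ⟨M, (M2.isInvertible_iff_isFinLocFreeOfRank_one M).2 hM,
        ⟨(Scheme.Modules.pullbackCongr h1.symm).app N ≪≫ ((Scheme.Modules.pullbackComp _ _).app N).symm ≪≫
          (Scheme.Modules.pullback j.hom).mapIso e ≪≫ (Scheme.Modules.pullbackComp _ _).app M ≪≫
          (Scheme.Modules.pullbackCongr h2).app M⟩⟩
    · rintro ⟨M, hM, ⟨e⟩⟩
      have h1' : j.inv ≫ (A ◁ z).left = pullback.fst f z.left := by rw [← h1, Iso.inv_hom_id_assoc]
      have h2' : j.inv ≫ (snd A T).left = pullback.snd f z.left := by rw [← h2, Iso.inv_hom_id_assoc]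
      exact ⟨M, (M2.isInvertible_iff_isFinLocFreeOfRank_one M).1 hM,
        ⟨(Scheme.Modules.pullbackCongr h1'.symm).app N ≪≫ ((Scheme.Modules.pullbackComp _ _).app N).symm ≪≫
          (Scheme.Modules.pullback j.inv).mapIso e ≪≫ (Scheme.Modules.pullbackComp _ _).app M ≪≫
          (Scheme.Modules.pullbackCongr h2').app M⟩⟩
  have hpull : PicGrp.pullHom (A ◁ z).left (M2.pullMul _) Λ =
      CubeField.P L hL (fst A T * (snd A T ≫ z)) *
        (CubeField.P L hL (fst A T) * CubeField.P L hL (snd A T ≫ z))⁻¹ := by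
    simp only [Λ, map_mul, map_inv, CubeField.pullHom_P, MonObj.comp_mul, whiskerLeft_fst, whiskerLeft_snd]
  have hcrit : ThetaGrp.IsMumfordTriv A L z ↔ Good f N z.left := by
    rw [CubeField.isMumfordTriv_iff hL z, key, ← mul_inv_eq_one, ← hpull, hΛ, PicGrp.pullHom_cls]
    constructor
    · intro h
      obtain ⟨e⟩ := (PicGrp.cls_eq_one_iff _).1 h
      exact ⟨Coh.structureModule T.left, PicLoc.isInvertible_structureModule _,
        ⟨e ≪≫ (Twist.pullbackUnitIso _).symm⟩⟩
    · rintro ⟨M, hM, ⟨e⟩⟩
      have h := congrArg (PicGrp.pullHom (lift (1 : T ⟶ A) (𝟙 T)).left (M2.pullMul _)) hpull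
      have hR : PicGrp.pullHom (lift (1 : T ⟶ A) (𝟙 T)).left (M2.pullMul _) (CubeField.P L hL (fst A T * (snd A T ≫ z)) *
          (CubeField.P L hL (fst A T) * CubeField.P L hL (snd A T ≫ z))⁻¹) = 1 := by
        simp only [map_mul, map_inv, CubeField.pullHom_P, MonObj.comp_mul, lift_fst, ← Category.assoc,
          CubeField.sec_snd, Category.id_comp, one_mul, CubeField.P_one, mul_inv_cancel]
      have he : PicGrp.cls ((Scheme.Modules.pullback (A ◁ z).left).obj N) (PicLoc.isInvertible_pullback _ hN) =
          PicGrp.pullHom (snd A T).left (M2.pullMul _) (PicGrp.cls M hM) := by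
        rw [PicGrp.pullHom_cls]
        exact (PicGrp.cls_eq_cls_iff _ _).2 ⟨e⟩
      rw [hΛ, PicGrp.pullHom_cls, hR, he] at h
      have hM1 : PicGrp.cls M hM = 1 := by
        rw [← h]
        simp only [PicGrp.pullHom_cls]
        refine ((PicGrp.cls_eq_cls_iff _ _).2 ⟨(Scheme.Modules.pullbackComp _ _).app M ≪≫
          (Scheme.Modules.pullbackCongr ?_).app M ≪≫ (Scheme.Modules.pullbackId T.left).app M⟩).symm
        rw [← Over.comp_left, CubeField.sec_snd]
        rfl
      rw [he, hM1, map_one]
  rw [hcrit, ← hI]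
  constructor
  · rintro ⟨u', hu'⟩
    refine ⟨Over.homMk u' ?_, Over.OverMorphism.ext hu'⟩
    show u' ≫ I.subschemeι ≫ A.hom = T.hom
    rw [← Category.assoc, hu', Over.w z]
  · rintro ⟨y, hy⟩
    exact ⟨y.left, congrArg CommaMorphism.left hy⟩

end Groth.Agent.Seesaw13
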