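import Groth.Agent.Lib.Seesaw13.Algebra
import Groth.Agent.Lib.PicPn.TrivialLocus
import Groth.Agent.Lib.CBC10.ModelExists
import Groth.Agent.Lib.TensorMod.PullTensor
import Groth.Agent.Lib.CartExt13.Rep
import Groth.Agent.S16758

/-!
# The closed subscheme where an invertible module is trivial relative to the base
-/

set_option autoImplicit false
set_option linter.style.haveILetI false
set_option linter.unusedSectionVars false
set_option backward.isDefEq.respectTransparency false

universe u

open CategoryTheory CategoryTheory.Limits AlgebraicGeometry TopologicalSpace Opposite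
open Groth.Agent.CBC10
open scoped TensorProduct

noncomputable section

namespace Groth.Agent.Seesaw13

variable {X S T : Scheme.{u}} {f : X ⟶ S} {F : X.Modules}

theorem computesOn_bc [IsSeparated f] [QuasiCompact f] (u : T ⟶ S) (hF : Coh.IsQCoh F) {V : S.Opens}
    {hV : IsAffineOpen V} {P : ChainComplex (ModuleCat.{u} Γ(S, V)) ℤ} (hP : ComputesOn f F hV P) {W : T.Opens}
    (hW : IsAffineOpen W) (eW : W ≤ u ⁻¹ᵁ V) :
    letI := (u.appLE V W eW).hom.toAlgebra
    ComputesOn (pullback.snd f u) ((Scheme.Modules.pullback (pullback.fst f u)).obj F) hW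
      (CohIII.bcCx (algebraMap Γ(S, V) Γ(T, W)) P) := by
  letI := (u.appLE V W eW).hom.toAlgebra
  letI := overU f hV
  letI := overU (pullback.snd f u) hW
  let X₁ : Scheme.{u} := (f ⁻¹ᵁ V : X.Opens)
  haveI : IsSeparated (X₁ ↘ Spec (CommRingCat.of Γ(S, V))) :=
    inferInstanceAs (IsSeparated (f ∣_ V ≫ hV.isoSpec.hom))
  haveI : QuasiCompact (X₁ ↘ Spec (CommRingCat.of Γ(S, V))) :=
    inferInstanceAs (QuasiCompact (f ∣_ V ≫ hV.isoSpec.hom))
  haveI : CompactSpace X₁ := QuasiCompact.compactSpace_of_compactSpace (X₁ ↘ Spec (CommRingCat.of Γ(S, V)))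
  haveI : X₁.IsSeparated := ⟨by
    rw [← terminal.comp_from (X₁ ↘ Spec (CommRingCat.of Γ(S, V)))]
    infer_instance⟩
  have h : IsPullback (pullback.fst f u) (pullback.snd f u) f u := IsPullback.of_hasPullback f u
  have eU := le_preimage_of_le (w := h.w) eW
  exact Computes.baseChange hP (M1.isQCoh_restrict hF _) (isPullback_affine h hV hW eW eU)
    (CohPull.pullOnIso (pullback.fst f u) _ _ eU F)

/-- The base change of a model. -/
def bcModel [IsSeparated f] [QuasiCompact f] (u : T ⟶ S) (hF : Coh.IsQCoh F) {V : S.Opens} (M : Model f F V)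
    {W : T.Opens} (hW : IsAffineOpen W) (eW : W ≤ u ⁻¹ᵁ V) :
    Model (pullback.snd f u) ((Scheme.Modules.pullback (pullback.fst f u)).obj F) W where
  isAffine := hW
  P := letI := (u.appLE V W eW).hom.toAlgebra
    CohIII.bcCx (algebraMap Γ(S, V) Γ(T, W)) M.P
  finite i := letI := (u.appLE V W eW).hom.toAlgebra
    finite_bcCx M.P Γ(T, W) i
  projective i := letI := (u.appLE V W eW).hom.toAlgebra
    projective_bcCx M.P Γ(T, W) i
  bounded := letI := (u.appLE V W eW).hom.toAlgebra
    M.bounded.imp fun i₀ hb i hi => FlatCxLib.isZero_bc M.P (hb i hi)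
  pos i hi N := by
    letI := (u.appLE V W eW).hom.toAlgebra
    letI : Module Γ(S, V) N := Module.compHom N (algebraMap Γ(S, V) Γ(T, W))
    haveI : IsScalarTower Γ(S, V) Γ(T, W) N := IsScalarTower.of_algebraMap_smul fun _ _ => rfl
    haveI := M.pos i hi (ModuleCat.of Γ(S, V) N)
    exact ((BCData.self M.P).tEquivD N (sub_add_cancel i 1)).symm.toEquiv.subsingleton
  computes := computesOn_bc u hF M.computes hW eW

/-- The corepresenting module of a model in degree zero. -/
abbrev coMod {V : S.Opens} (M : Model f F V) : Type u := FlatCxLib.corep M.P (-((0 : ℕ) : ℤ)) (-1)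

theorem projective_cok_zero {V : S.Opens} (M : Model f F V) :
    Module.Projective Γ(S, V) (FlatCxLib.Cok M.P (-((0 : ℕ) : ℤ))) := by
  haveI : Module.Flat Γ(S, V) (FlatCxLib.Cok M.P (-((0 : ℕ) : ℤ))) := by simpa using M.flatCok_zero
  haveI := fp_cok M.P (-((0 : ℕ) : ℤ))
  exact Module.Flat.projective_of_finitePresentation

theorem finite_coMod {V : S.Opens} (M : Model f F V) : Module.Finite Γ(S, V) (coMod M) := by
  haveI := projective_cok_zero M
  haveI : Module.Finite Γ(S, V) (Module.Dual Γ(S, V) (FlatCxLib.Cok M.P (-((0 : ℕ) : ℤ)))) := inferInstance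
  exact Module.Finite.quotient Γ(S, V) _

theorem primeIdealOf_surjective {V : S.Opens} (hV : IsAffineOpen V) (z : PrimeSpectrum Γ(S, V)) :
    ∃ (s : S) (hs : s ∈ V), hV.primeIdealOf ⟨s, hs⟩ = z := by
  have hzV : hV.fromSpec z ∈ V := by rw [← SetLike.mem_coe, ← hV.range_fromSpec]; exact ⟨z, rfl⟩
  exact ⟨_, hzV, hV.fromSpec.isOpenEmbedding.injective (hV.fromSpec_primeIdealOf _)⟩

section Fixed

variable [IsProper f] [IsLocallyNoetherian S] (u : T ⟶ S) [hF : Coh.IsQCoh F]
  {V : S.Opens} (M : Model f F V) {W : T.Opens} (hW : IsAffineOpen W) (eW : W ≤ u ⁻¹ᵁ V)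

include hF in
theorem finrank_coMod_fiber {t : T} (ht : t ∈ W) :
    letI := (u.appLE V W eW).hom.toAlgebra
    Module.finrank (PrimeSpectrum.comap (algebraMap Γ(S, V) Γ(T, W)) (hW.primeIdealOf ⟨t, ht⟩)).asIdeal.ResidueField
      ((PrimeSpectrum.comap (algebraMap Γ(S, V) Γ(T, W)) (hW.primeIdealOf ⟨t, ht⟩)).asIdeal.ResidueField
        ⊗[Γ(S, V)] coMod M) =
      CohIII.fiberRank (pullback.snd f u) ((Scheme.Modules.pullback (pullback.fst f u)).obj F) 0 t := by
  letI := (u.appLE V W eW).hom.toAlgebra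
  haveI := projective_cok_zero M
  haveI : Coh.IsQCoh ((Scheme.Modules.pullback (pullback.fst f u)).obj F) := M1.isQCoh_pullback _ hF
  rw [finrank_corep M.P (by simp), (bcModel u hF M hW eW).fiberRank_eq (M1.isQCoh_pullback _ hF) 0 ⟨t, ht⟩]
  exact (FlatCxLib.dRank_bcCx M.P Γ(T, W) _ _).symm

include hF hW in
/-- Degree zero base change is onto at all points of `W` iff `Γ(T, W) ⊗ Q` is flat. -/
theorem epi_iff_flat_coMod :
    letI := (u.appLE V W eW).hom.toAlgebra
    (∀ t ∈ W, Epi (CohBC.bc0 (pullback.snd f u) (T.fromSpecResidueField t)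
      ((pullback.snd f u).fiberToSpecResidueField t) ((pullback.snd f u).fiberι t) ((pullback.snd f u).fiber_fac t)
      ((Scheme.Modules.pullback (pullback.fst f u)).obj F))) ↔
      Module.Flat Γ(T, W) (Γ(T, W) ⊗[Γ(S, V)] coMod M) := by
  letI := (u.appLE V W eW).hom.toAlgebra
  haveI := projective_cok_zero M
  haveI : Coh.IsQCoh ((Scheme.Modules.pullback (pullback.fst f u)).obj F) := M1.isQCoh_pullback _ hF
  let M' := bcModel u hF M hW eW
  haveI := fp_cok M'.P (-1)
  haveI : ∀ i, Module.Flat Γ(T, W) (M'.P.X i) := fun i => inferInstance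
  have h1 : (∀ t ∈ W, M'.FreeAt (-1) t) ↔ Module.Flat Γ(T, W) (FlatCxLib.Cok M'.P (-1)) := by
    refine ⟨fun h => ?_, fun h t ht => M'.freeAt_of_flatCok h ht⟩
    haveI : Module.Projective Γ(T, W) (FlatCxLib.Cok M'.P (-1)) :=
      Module.freeLocus_eq_univ_iff.1 (Set.eq_univ_of_forall fun z => by
        obtain ⟨t, ht, rfl⟩ := primeIdealOf_surjective hW z
        exact (h t ht).2)
    infer_instance
  have h2 : (∀ t ∈ W, Epi (CohBC.bc0 (pullback.snd f u) (T.fromSpecResidueField t)
      ((pullback.snd f u).fiberToSpecResidueField t) ((pullback.snd f u).fiberι t) ((pullback.snd f u).fiber_fac t)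
      ((Scheme.Modules.pullback (pullback.fst f u)).obj F))) ↔ ∀ t ∈ W, M'.FreeAt (-1) t :=
    forall₂_congr fun t ht => M'.epi_fibre0_iff ht
  haveI := finite_coMod M
  haveI : Module.Finite Γ(T, W) (Γ(T, W) ⊗[Γ(S, V)] coMod M) := inferInstance
  haveI : IsNoetherianRing Γ(S, V) := IsLocallyNoetherian.component_noetherian ⟨V, M.isAffine⟩
  haveI := Module.finitePresentation_of_finite Γ(S, V) (coMod M)
  haveI : Module.FinitePresentation Γ(T, W) (Γ(T, W) ⊗[Γ(S, V)] coMod M) := inferInstance
  refine h2.trans (h1.trans (Iff.trans (FlatCxLib.preservesEpi_iff M'.P (p := -((0 : ℕ) : ℤ)) (q := -1) (by simp)).symm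
    ((preservesEpi_bc_iff M.P (p := -((0 : ℕ) : ℤ)) (q := -1) (by simp) Γ(T, W)).trans
      ⟨fun h => inferInstance, fun h => Module.Flat.projective_of_finitePresentation⟩)))

end Fixed

variable (f) [IsProper f] [Flat f] [GeometricallyIntegral f] [IsLocallyNoetherian S]

/-- Relative triviality of an invertible module after base change. -/
def Good (L : X.Modules) (u : T ⟶ S) : Prop :=
  ∃ N : T.Modules, FlatMod.IsFinLocFreeOfRank 1 N ∧
    Nonempty ((Scheme.Modules.pullback (pullback.fst f u)).obj L ≅ (Scheme.Modules.pullback (pullback.snd f u)).obj N)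

section Locus

variable {L D : X.Modules} (hL : PicF.IsInvertible L) (hD : PicF.IsInvertible D)
  (e : CohB1.tensorMod L D ≅ Coh.structureModule X) {V : S.Opens} (ML : Model f L V) (MD : Model f D V)

/-- The equations of the locus over an affine open. -/
def eqn : Ideal Γ(S, V) :=
  Module.annihilator Γ(S, V) (coMod ML) ⊔ Module.annihilator Γ(S, V) (coMod MD)

section BC

variable {u : T ⟶ S}

include hL hD e in
theorem good_iff :
    Good f L u ↔ ∀ t : T,
      (Nontrivial (CohIII.fiberH (pullback.snd f u) ((Scheme.Modules.pullback (pullback.fst f u)).obj L) t 0) ∧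
        Nontrivial (CohIII.fiberH (pullback.snd f u) ((Scheme.Modules.pullback (pullback.fst f u)).obj D) t 0)) ∧
      Epi (CohBC.bc0 (pullback.snd f u) (T.fromSpecResidueField t) ((pullback.snd f u).fiberToSpecResidueField t)
        ((pullback.snd f u).fiberι t) ((pullback.snd f u).fiber_fac t)
        ((Scheme.Modules.pullback (pullback.fst f u)).obj L)) ∧
      Epi (CohBC.bc0 (pullback.snd f u) (T.fromSpecResidueField t) ((pullback.snd f u).fiberToSpecResidueField t)
        ((pullback.snd f u).fiberι t) ((pullback.snd f u).fiber_fac t)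
        ((Scheme.Modules.pullback (pullback.fst f u)).obj D)) := by
  haveI : LocallyOfFinitePresentation f := LimH13.locallyOfFinitePresentation_of_noetherian f
  haveI : GeometricallyConnected f := PicPn.geometricallyConnected_of_irreducible f
  haveI : GeometricallyConnected (pullback.snd f u) := PicPn.geometricallyConnected_of_irreducible _
  have h0 := fun t => PicPn.finrank_fiber_of_geometrically (pullback.snd f u) t
  have hb : ∀ U : T.Opens, Function.Bijective ((pullback.snd f u).app U) := fun U =>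
    (ConcreteCategory.isIso_iff_bijective _).1
      ((Groth.Agent.S16758.result f).1 (fun y => PicPn.finrank_fiber_of_geometrically f y) T u U)
  let π := pullback.fst f u
  let g := pullback.snd f u
  let LT := (Scheme.Modules.pullback π).obj L
  let DT := (Scheme.Modules.pullback π).obj D
  have hLT : PicF.IsInvertible LT := PicLoc.isInvertible_pullback π hL
  have hDT : PicF.IsInvertible DT := PicLoc.isInvertible_pullback π hD
  let eT : CohB1.tensorMod LT DT ≅ Coh.structureModule _ :=
    (M2.pullTensorIso π L D).symm ≪≫ (Scheme.Modules.pullback π).mapIso e ≪≫ Twist.pullbackUnitIso _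
  have hint : ∀ t, IsIntegral (g.fiber t) := fun t => inferInstance
  constructor
  · rintro ⟨N, hN, ⟨φ⟩⟩ t
    have hN := (M2.isInvertible_iff_isFinLocFreeOfRank_one N).2 hN
    obtain ⟨D₀, hD₀, ⟨e₀⟩⟩ := M2.exists_inverse hN
    let φD : (Scheme.Modules.pullback g).obj D₀ ≅ DT :=
      (M2.tensorLUnit _).symm ≪≫
        M2.tensorIso (eT.symm ≪≫ M2.tensorComm LT DT) (Iso.refl _) ≪≫
        M2.tensorAssoc DT LT _ ≪≫
        M2.tensorIso (Iso.refl DT) (M2.tensorIso φ (Iso.refl _) ≪≫
          (M2.pullTensorIso g N D₀).symm ≪≫ (Scheme.Modules.pullback g).mapIso e₀ ≪≫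
          Twist.pullbackUnitIso g) ≪≫ M2.tensorRUnit DT
    refine ⟨(PicPn.fibre_trivial_iff g t hLT hDT eT).1 (PicPn.fibre_trivial_of_pullback g hN φ.symm t), ?_, ?_⟩
    · obtain ⟨U, σ, hsU, hσ⟩ := PicPn.exists_gen_of_pullback g hN φ.symm t
      exact PicPn.epi_bc0_of_gen g t (PicPn.bijective_fiber_appTop_of_finrank g t (h0 t)) σ hsU hσ
    · obtain ⟨U, σ, hsU, hσ⟩ := PicPn.exists_gen_of_pullback g hD₀ φD t
      exact PicPn.epi_bc0_of_gen g t (PicPn.bijective_fiber_appTop_of_finrank g t (h0 t)) σ hsU hσ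
  · intro ha
    obtain ⟨N, hN, ⟨φ⟩⟩ := (PicPn.exists_of_gens g hb (L := LT) fun t => by
      haveI : Subsingleton (Spec (T.residueField t)) :=
        inferInstanceAs (Subsingleton (PrimeSpectrum (T.residueField t)))
      obtain ⟨V, hV, htV, -⟩ := exists_isAffineOpen_mem_and_subset (X := T) (x := t) (U := ⊤) trivial
      exact PicPn.exists_gen_of_surjective g hLT hV htV
        ((CBC10.epi_iff_surjective_top _).1 (ha t).2.1)
        ((PicPn.fibre_trivial_iff g t hLT hDT eT).2 (ha t).1)).1
    exact ⟨N, (M2.isInvertible_iff_isFinLocFreeOfRank_one N).1 hN, ⟨φ.symm⟩⟩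

include hL hD e in
theorem fiberRank_eq_one {t : T}
    (h : Nontrivial (CohIII.fiberH (pullback.snd f u) ((Scheme.Modules.pullback (pullback.fst f u)).obj L) t 0) ∧
      Nontrivial (CohIII.fiberH (pullback.snd f u) ((Scheme.Modules.pullback (pullback.fst f u)).obj D) t 0)) :
    CohIII.fiberRank (pullback.snd f u) ((Scheme.Modules.pullback (pullback.fst f u)).obj L) 0 t = 1 ∧
      CohIII.fiberRank (pullback.snd f u) ((Scheme.Modules.pullback (pullback.fst f u)).obj D) 0 t = 1 := by
  let g := pullback.snd f u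
  haveI : LocallyOfFinitePresentation f := LimH13.locallyOfFinitePresentation_of_noetherian f
  haveI : GeometricallyConnected g := PicPn.geometricallyConnected_of_irreducible g
  haveI : IsIntegral (g.fiber t) := inferInstance
  let π := pullback.fst f u
  let eT := (M2.pullTensorIso π L D).symm ≪≫ (Scheme.Modules.pullback π).mapIso e ≪≫ Twist.pullbackUnitIso _
  have hL' := PicLoc.isInvertible_pullback π hL
  have hD' := PicLoc.isInvertible_pullback π hD
  obtain ⟨τ⟩ := (PicPn.fibre_trivial_iff g t hL' hD' eT).2 h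
  obtain ⟨τ'⟩ := (PicPn.fibre_trivial_iff g t hD' hL' (M2.tensorComm _ _ ≪≫ eT)).2 ⟨h.2, h.1⟩
  exact ⟨(PicPn.fiberRank_zero_eq_finrank g _ t τ).trans (PicPn.finrank_fiber_of_geometrically g t),
    (PicPn.fiberRank_zero_eq_finrank g _ t τ').trans (PicPn.finrank_fiber_of_geometrically g t)⟩

variable {W : T.Opens} (hW : IsAffineOpen W) (eW : W ≤ u ⁻¹ᵁ V)

include hL hD e hW in
theorem eqn_le_ker (h : Good f L u) : eqn f ML MD ≤ RingHom.ker (u.appLE V W eW).hom := by
  letI := (u.appLE V W eW).hom.toAlgebra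
  haveI := Twist.isQCoh_of_isInvertible hL
  haveI := Twist.isQCoh_of_isInvertible hD
  haveI := finite_coMod ML
  haveI := finite_coMod MD
  have hg := (good_iff f hL hD e).1 h
  refine sup_le ?_ ?_
  · haveI := (epi_iff_flat_coMod u ML hW eW).1 fun t _ => (hg t).2.1
    haveI : IsNoetherianRing Γ(S, V) := IsLocallyNoetherian.component_noetherian ⟨V, ML.isAffine⟩
    haveI := Module.finitePresentation_of_finite Γ(S, V) (coMod ML)
    haveI : Module.FinitePresentation Γ(T, W) (Γ(T, W) ⊗[Γ(S, V)] coMod ML) := inferInstance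
    haveI : Module.Projective Γ(T, W) (Γ(T, W) ⊗[Γ(S, V)] coMod ML) := Module.Flat.projective_of_finitePresentation
    refine annihilator_le_ker (coMod ML) Γ(T, W) fun y => ?_
    obtain ⟨t, ht, rfl⟩ := primeIdealOf_surjective hW y
    rw [Module.mem_support_iff_nontrivial_residueField_tensorProduct]
    exact Module.nontrivial_of_finrank_eq_succ (n := 0)
      ((finrank_coMod_fiber u ML hW eW ht).trans (fiberRank_eq_one f hL hD e (hg t).1).1)
  · haveI := (epi_iff_flat_coMod u MD hW eW).1 fun t _ => (hg t).2.2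
    haveI : IsNoetherianRing Γ(S, V) := IsLocallyNoetherian.component_noetherian ⟨V, MD.isAffine⟩
    haveI := Module.finitePresentation_of_finite Γ(S, V) (coMod MD)
    haveI : Module.FinitePresentation Γ(T, W) (Γ(T, W) ⊗[Γ(S, V)] coMod MD) := inferInstance
    haveI : Module.Projective Γ(T, W) (Γ(T, W) ⊗[Γ(S, V)] coMod MD) := Module.Flat.projective_of_finitePresentation
    refine annihilator_le_ker (coMod MD) Γ(T, W) fun y => ?_
    obtain ⟨t, ht, rfl⟩ := primeIdealOf_surjective hW y
    rw [Module.mem_support_iff_nontrivial_residueField_tensorProduct]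
    exact Module.nontrivial_of_finrank_eq_succ (n := 0)
      ((finrank_coMod_fiber u MD hW eW ht).trans (fiberRank_eq_one f hL hD e (hg t).1).2)

include hL hD e hW in
theorem good_at_of_eqn_le_ker (h : eqn f ML MD ≤ RingHom.ker (u.appLE V W eW).hom) {t : T} (ht : t ∈ W) :
      (Nontrivial (CohIII.fiberH (pullback.snd f u) ((Scheme.Modules.pullback (pullback.fst f u)).obj L) t 0) ∧
        Nontrivial (CohIII.fiberH (pullback.snd f u) ((Scheme.Modules.pullback (pullback.fst f u)).obj D) t 0)) ∧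
      Epi (CohBC.bc0 (pullback.snd f u) (T.fromSpecResidueField t) ((pullback.snd f u).fiberToSpecResidueField t)
        ((pullback.snd f u).fiberι t) ((pullback.snd f u).fiber_fac t)
        ((Scheme.Modules.pullback (pullback.fst f u)).obj L)) ∧
      Epi (CohBC.bc0 (pullback.snd f u) (T.fromSpecResidueField t) ((pullback.snd f u).fiberToSpecResidueField t)
        ((pullback.snd f u).fiberι t) ((pullback.snd f u).fiber_fac t)
        ((Scheme.Modules.pullback (pullback.fst f u)).obj D)) := by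
  letI := (u.appLE V W eW).hom.toAlgebra
  haveI := Twist.isQCoh_of_isInvertible hL
  haveI := Twist.isQCoh_of_isInvertible hD
  haveI := finite_coMod ML
  haveI := finite_coMod MD
  obtain ⟨hl, hd⟩ := sup_le_iff.1 h
  have hsupp : ∀ {Q : Type u} [AddCommGroup Q] [Module Γ(S, V) Q] [Module.Finite Γ(S, V) Q]
      (_ : Module.annihilator Γ(S, V) Q ≤ RingHom.ker (u.appLE V W eW).hom) (y : PrimeSpectrum Γ(T, W)),
      0 < Module.finrank (PrimeSpectrum.comap (algebraMap Γ(S, V) Γ(T, W)) y).asIdeal.ResidueField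
        ((PrimeSpectrum.comap (algebraMap Γ(S, V) Γ(T, W)) y).asIdeal.ResidueField ⊗[Γ(S, V)] Q) := by
    intro Q _ _ _ hQ y
    haveI := (Module.mem_support_iff_nontrivial_residueField_tensorProduct (M := Q)
      (PrimeSpectrum.comap (algebraMap Γ(S, V) Γ(T, W)) y)).1 (by
        rw [Module.support_eq_zeroLocus, PrimeSpectrum.mem_zeroLocus]
        intro a ha
        show algebraMap Γ(S, V) Γ(T, W) a ∈ y.asIdeal
        rw [show algebraMap Γ(S, V) Γ(T, W) a = 0 from hQ ha]
        exact zero_mem _)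
    exact Module.finrank_pos
  have hnt : ∀ s, (hs : s ∈ W) →
      Nontrivial (CohIII.fiberH (pullback.snd f u) ((Scheme.Modules.pullback (pullback.fst f u)).obj L) s 0) ∧
        Nontrivial (CohIII.fiberH (pullback.snd f u) ((Scheme.Modules.pullback (pullback.fst f u)).obj D) s 0) :=
    fun s hs => ⟨Module.nontrivial_of_finrank_pos (R := T.residueField s)
      ((hsupp hl (hW.primeIdealOf ⟨s, hs⟩)).trans_eq (finrank_coMod_fiber u ML hW eW hs)),
      Module.nontrivial_of_finrank_pos (R := T.residueField s)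
      ((hsupp hd (hW.primeIdealOf ⟨s, hs⟩)).trans_eq (finrank_coMod_fiber u MD hW eW hs))⟩
  refine ⟨hnt t ht, (epi_iff_flat_coMod u ML hW eW).2 ?_ t ht, (epi_iff_flat_coMod u MD hW eW).2 ?_ t ht⟩
  · refine flat_of_annihilator_le_ker (coMod ML) Γ(T, W) hl fun y => ?_
    obtain ⟨s, hs, rfl⟩ := primeIdealOf_surjective hW y
    exact (finrank_coMod_fiber u ML hW eW hs).trans (fiberRank_eq_one f hL hD e (hnt s hs)).1
  · refine flat_of_annihilator_le_ker (coMod MD) Γ(T, W) hd fun y => ?_
    obtain ⟨s, hs, rfl⟩ := primeIdealOf_surjective hW y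
    exact (finrank_coMod_fiber u MD hW eW hs).trans (fiberRank_eq_one f hL hD e (hnt s hs)).2

end BC

include hL hD e in
/-- Over an affine open the locus is cut out by the equations. -/
theorem good_spec_iff (hV : IsAffineOpen V) (C : CommRingCat.{u}) (φ : Γ(S, V) ⟶ C) :
    Good f L (Spec.map φ ≫ hV.fromSpec) ↔ eqn f ML MD ≤ RingHom.ker φ.hom := by
  let u := Spec.map φ ≫ hV.fromSpec
  have eW : (⊤ : (Spec C).Opens) ≤ u ⁻¹ᵁ V := fun z _ => by
    show hV.fromSpec (Spec.map φ z) ∈ V
    rw [← SetLike.mem_coe, ← hV.range_fromSpec]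
    exact ⟨_, rfl⟩
  have happ : u.appLE V ⊤ eW = φ ≫ (Scheme.ΓSpecIso C).inv := by
    have h1 : u.appLE V ⊤ eW = hV.fromSpec.appLE V ⊤ hV.fromSpec_preimage_self.ge ≫ (Spec.map φ).appTop := by
      simp only [u]
      rw [Scheme.Hom.appTop, Scheme.Hom.app_eq_appLE]
      exact (Scheme.Hom.appLE_comp_appLE _ _ _ _ _ _ _).symm
    rw [h1, Scheme.Hom.appLE, hV.fromSpec_app_self]
    simp only [Category.assoc]
    rw [← Functor.map_comp_assoc]
    have hid : ∀ (w : op (⊤ : (Spec Γ(S, V)).Opens) ⟶ op ⊤), (Spec Γ(S, V)).presheaf.map w = 𝟙 _ := fun w => by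
      rw [Subsingleton.elim w (𝟙 _)]
      exact CategoryTheory.Functor.map_id _ _
    rw [hid, Category.id_comp, Scheme.ΓSpecIso_inv_naturality]
  have hker : RingHom.ker (u.appLE V ⊤ eW).hom = RingHom.ker φ.hom := by
    rw [happ, CommRingCat.hom_comp]
    exact RingHom.ker_comp_of_injective _ (Scheme.ΓSpecIso C).commRingCatIsoToRingEquiv.symm.injective
  constructor
  · intro h
    exact (eqn_le_ker f hL hD e ML MD (isAffineOpen_top _) eW h).trans hker.le
  · intro h
    exact (good_iff f hL hD e).2 fun t =>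
      good_at_of_eqn_le_ker f hL hD e ML MD (isAffineOpen_top _) eW (h.trans hker.ge) (t := t) trivial

end Locus

/-- The seesaw locus. -/
theorem exists_idealSheaf (L : X.Modules) (hL : PicF.IsInvertible L) :
    ∃ I : S.IdealSheafData, ∀ (T : Scheme.{u}) (u : T ⟶ S),
      ((∃ u' : T ⟶ I.subscheme, u' ≫ I.subschemeι = u) ↔ Good f L u) := by
  obtain ⟨D, hD, ⟨e⟩⟩ := M2.exists_inverse hL
  haveI : LocallyOfFinitePresentation f := LimH13.locallyOfFinitePresentation_of_noetherian f
  have hmodel : ∀ (F : X.Modules), PicF.IsInvertible F → ∀ U : S.affineOpens, Nonempty (Model f F U.1) :=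
    fun F hF U => by
      haveI : Coh.IsQCoh F := Twist.isQCoh_of_isInvertible hF
      exact exists_model f F (LimShf14.isFP_of_isInvertible hF) (DPerf.isFlatOver_of_isFlat f (M := F) fun x =>
        KFlat.Sch.isFlat_of_isFinLocFree (M2.isFinLocFree_of_isInvertible hF) x) U.2
  let ML := fun U => (hmodel L hL U).some
  let MD := fun U => (hmodel D hD U).some
  let J : ∀ U : S.affineOpens, Ideal Γ(S, U.1) := fun U => eqn f (ML U) (MD U)
  have hmap : ∀ (U : S.affineOpens) (r : Γ(S, U.1)),
      (J U).map (S.presheaf.map (homOfLE <| S.basicOpen_le r).op).hom = J (S.affineBasicOpen r) := by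
    intro U r
    let res : Γ(S, U.1) ⟶ Γ(S, (S.affineBasicOpen r).1) := S.presheaf.map (homOfLE <| S.basicOpen_le r).op
    have hres : Spec.map res ≫ U.2.fromSpec = (S.affineBasicOpen r).2.fromSpec :=
      IsAffineOpen.map_fromSpec U.2 (S.affineBasicOpen r).2 _
    have key : ∀ (C : CommRingCat.{u}) (φ : Γ(S, (S.affineBasicOpen r).1) ⟶ C),
        (J U).map res.hom ≤ RingHom.ker φ.hom ↔ J (S.affineBasicOpen r) ≤ RingHom.ker φ.hom := by
      intro C φ
      rw [Ideal.map_le_iff_le_comap, RingHom.comap_ker, ← CommRingCat.hom_comp,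
        ← good_spec_iff f hL hD e (ML U) (MD U) U.2, ← good_spec_iff f hL hD e (ML _) (MD _) (S.affineBasicOpen r).2,
        Spec.map_comp, Category.assoc, hres]
    refine le_antisymm ?_ ?_
    · have := (key (CommRingCat.of (_ ⧸ J (S.affineBasicOpen r))) (CommRingCat.ofHom (Ideal.Quotient.mk _))).2
        Ideal.mk_ker.ge
      simpa [Ideal.mk_ker] using this
    · have := (key (CommRingCat.of (_ ⧸ (J U).map res.hom)) (CommRingCat.ofHom (Ideal.Quotient.mk _))).1
        Ideal.mk_ker.ge
      simpa [Ideal.mk_ker] using this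
  let I : S.IdealSheafData := { ideal := J, map_ideal_basicOpen := hmap }
  refine ⟨I, fun T u => ?_⟩
  have hker : (∃ h : T ⟶ I.subscheme, h ≫ I.subschemeι = u) ↔
      ∀ U : S.affineOpens, J U ≤ RingHom.ker (u.app U.1).hom :=
    (CartExt13.factors_iff_le_ker I u).trans Scheme.IdealSheafData.le_ofIdeals_iff
  rw [hker, good_iff f hL hD e]
  constructor
  · intro h t
    obtain ⟨U, hU, htU, -⟩ := exists_isAffineOpen_mem_and_subset (X := S) (x := u t) (U := ⊤) trivial
    obtain ⟨W, hW, htW, hWU⟩ := exists_isAffineOpen_mem_and_subset (X := T) (x := t) (U := u ⁻¹ᵁ U) htU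
    refine good_at_of_eqn_le_ker f hL hD e (ML ⟨U, hU⟩) (MD ⟨U, hU⟩) hW hWU (fun a ha => ?_) htW
    rw [RingHom.mem_ker, Scheme.Hom.appLE, CommRingCat.comp_apply, (h ⟨U, hU⟩ ha : u.app _ a = 0), map_zero]
  · intro h U a ha
    rw [RingHom.mem_ker]
    refine T.sheaf.eq_of_locally_eq' (fun W : { W : T.affineOpens // W.1 ≤ u ⁻¹ᵁ U.1 } => W.1.1) (u ⁻¹ᵁ U.1)
      (fun W => homOfLE W.2) ?_ _ _ fun W => ?_
    · intro x hx
      obtain ⟨_, ⟨W, hW, rfl⟩, hxW, hWU⟩ :=
        T.isBasis_affineOpens.exists_subset_of_mem_open (show x ∈ u ⁻¹ᵁ U.1 from hx) (u ⁻¹ᵁ U.1).isOpen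
      exact Opens.mem_iSup.2 ⟨⟨⟨W, hW⟩, hWU⟩, hxW⟩
    · have h1 := eqn_le_ker f hL hD e (ML U) (MD U) W.1.2 W.2 ((good_iff f hL hD e).2 h) ha
      rw [RingHom.mem_ker, Scheme.Hom.appLE, CommRingCat.comp_apply] at h1
      rw [map_zero]
      exact h1

end Groth.Agent.Seesaw13
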