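import Groth.Agent.Lib.CBC10.DegEquiv
import Groth.Agent.Lib.FlatCx.Corep
import Mathlib.RingTheory.Spectrum.Prime.FreeLocus
import Mathlib.RingTheory.Support

/-!
# Where a corepresenting module becomes invertible

If the fibres of a finite module `Q` have dimension at most one, `B ⊗ Q` is invertible exactly when
the annihilator of `Q` dies in `B`.
-/

set_option autoImplicit false
set_option linter.style.haveILetI false
set_option linter.unusedSectionVars false

universe u

open CategoryTheory Groth.Agent.DMod Groth.Agent.FlatCxLib Groth.Agent.CBC10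
open scoped TensorProduct

noncomputable section

namespace Groth.Agent.Seesaw13

variable {A : Type u} [CommRing A]

section Complex

variable (P : ChainComplex (ModuleCat.{u} A) ℤ) {p q : ℤ} (h : q + 1 = p)
  [∀ i, Module.Finite A (P.X i)] [∀ i, Module.Projective A (P.X i)] [Module.Projective A (Cok P p)]

theorem corepEquiv_natural {M N : Type u} [AddCommGroup M] [Module A M] [AddCommGroup N] [Module A N]
    (g : M →ₗ[A] N) (η : CohIII.T P p (ModuleCat.of A M)) :
    corepEquiv P h N (Tmap P p g η) = g ∘ₗ corepEquiv P h M η := by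
  obtain ⟨w, rfl⟩ := cls_surjective (CohIII.tensorObj P (ModuleCat.of A M)) h η
  have hw : g.lTensor (P.X p) w.1 ∈ LinearMap.ker (dl (CohIII.tensorObj P (ModuleCat.of A N)) p q) :=
    (lTensor_dl P p q g w.1).trans ((congrArg _ w.2).trans (map_zero _))
  rw [Tmap_cls P g h w hw, corepEquiv_cls, corepEquiv_cls]
  refine Submodule.linearMap_qext _ (LinearMap.ext fun f => ?_)
  change evHom (Cok P p) N (qM P p N (g.lTensor (P.X p) w.1)) f = g (evHom (Cok P p) M (qM P p M w.1) f)
  rw [← lTensor_qM, evHom_lTensor]
  rfl

include h in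
/-- The fibre rank of `T_p` is the fibre dimension of the corepresenting module. -/
theorem finrank_corep (x : PrimeSpectrum A) :
    Module.finrank x.asIdeal.ResidueField (x.asIdeal.ResidueField ⊗[A] corep P p q) = CohIII.dRank P p x := by
  let K := x.asIdeal.ResidueField
  let e : (corep P p q →ₗ[A] K) ≃+ (CohIII.bcCx (algebraMap A K) P).homology p :=
    (corepEquiv P h K).symm.toAddEquiv.trans (tensorBcEquiv P K h)
  have he : ∀ (b : K) (f : corep P p q →ₗ[A] K), e (b • f) = b • e f := fun b f => by
    obtain ⟨η, rfl⟩ := (corepEquiv P h K).surjective f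
    have h1 : b • corepEquiv P h K η = corepEquiv P h K (Tmap P p (LinearMap.mulLeft A b) η) := by
      rw [corepEquiv_natural]; rfl
    rw [h1]
    show tensorBcEquiv P K h ((corepEquiv P h K).symm _) = b • tensorBcEquiv P K h ((corepEquiv P h K).symm _)
    rw [LinearEquiv.symm_apply_apply, LinearEquiv.symm_apply_apply]
    exact tensorBcEquiv_mul P K h b η
  let eK : (corep P p q →ₗ[A] K) ≃ₗ[K] (CohIII.bcCx (algebraMap A K) P).homology p := e.toLinearEquiv he
  rw [← Subspace.dual_finrank_eq, ← (LinearMap.liftBaseChangeEquiv (M := corep P p q) (N := K) K).finrank_eq]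
  exact eK.finrank_eq

variable (B : Type u) [CommRing B] [Algebra A B]

include h in
/-- Right exactness over `B` means `B ⊗ Q` is projective. -/
theorem preservesEpi_bc_iff :
    (CohIII.TFun (CohIII.bcCx (algebraMap A B) P) p).PreservesEpimorphisms ↔
      Module.Projective B (B ⊗[A] corep P p q) := by
  let D : BCData P (CohIII.bcCx (algebraMap A B) P) := BCData.self P
  constructor
  · intro he
    refine Module.Projective.of_lifting_property fun {M N} _ _ _ _ f g hf => ?_
    letI : Module A M := Module.compHom M (algebraMap A B)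
    haveI : IsScalarTower A B M := IsScalarTower.of_algebraMap_smul fun _ _ => rfl
    letI : Module A N := Module.compHom N (algebraMap A B)
    haveI : IsScalarTower A B N := IsScalarTower.of_algebraMap_smul fun _ _ => rfl
    obtain ⟨η, hη⟩ := (corepEquiv P h N).surjective ((g.restrictScalars A).comp (TensorProduct.mk A B _ 1))
    haveI : Epi (ModuleCat.ofHom f) := (ModuleCat.epi_iff_surjective _).2 hf
    obtain ⟨ξ, hξ⟩ := (ModuleCat.epi_iff_surjective _).1
      (inferInstance : Epi ((CohIII.TFun (CohIII.bcCx (algebraMap A B) P) p).map (ModuleCat.ofHom f)))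
      (D.tEquivD N h η)
    obtain ⟨ζ, rfl⟩ := (D.tEquivD M h).surjective ξ
    have h1 : Tmap P p (f.restrictScalars A) ζ = η :=
      (D.tEquivD N h).injective ((BCData.tEquivD_natural D h f ζ).trans hξ)
    refine ⟨(corepEquiv P h M ζ).liftBaseChange B, LinearMap.ext fun z => ?_⟩
    induction z using TensorProduct.induction_on with
    | zero => simp
    | tmul b x =>
      have h2 : f (corepEquiv P h M ζ x) = g (1 ⊗ₜ x) := by
        have := LinearMap.congr_fun ((corepEquiv_natural P h (f.restrictScalars A) ζ).symm.trans
          ((congrArg (corepEquiv P h N) h1).trans hη)) x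
        exact this
      rw [LinearMap.comp_apply, LinearMap.liftBaseChange_tmul, map_smul, h2, ← map_smul,
        TensorProduct.smul_tmul', smul_eq_mul, mul_one]
    | add a b ha hb => rw [map_add, map_add, ha, hb]
  · intro hp
    refine ⟨fun {M N} g hg => (ModuleCat.epi_iff_surjective _).2 fun ν => ?_⟩
    letI : Module A M := Module.compHom M (algebraMap A B)
    haveI : IsScalarTower A B M := IsScalarTower.of_algebraMap_smul fun _ _ => rfl
    letI : Module A N := Module.compHom N (algebraMap A B)
    haveI : IsScalarTower A B N := IsScalarTower.of_algebraMap_smul fun _ _ => rfl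
    obtain ⟨η, rfl⟩ := (D.tEquivD N h).surjective ν
    obtain ⟨l, hl⟩ := Module.projective_lifting_property g.hom ((corepEquiv P h N η).liftBaseChange B)
      ((ModuleCat.epi_iff_surjective _).1 hg)
    let ζ := (corepEquiv P h M).symm ((l.restrictScalars A).comp (TensorProduct.mk A B _ 1))
    refine ⟨D.tEquivD M h ζ, ?_⟩
    refine (BCData.tEquivD_natural D h g.hom ζ).symm.trans (congrArg _ ((corepEquiv P h N).injective ?_))
    rw [corepEquiv_natural, LinearEquiv.apply_symm_apply]
    refine LinearMap.ext fun x => ?_
    refine (LinearMap.congr_fun hl (1 ⊗ₜ x)).trans ?_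
    rw [LinearMap.liftBaseChange_tmul, one_smul]

end Complex

section Module

variable (Q : Type u) [AddCommGroup Q] [Module A Q] [Module.Finite A Q] (B : Type u) [CommRing B] [Algebra A B]

/-- A one-dimensional fibre has a generator nearby. -/
theorem exists_generator (x : PrimeSpectrum A)
    (h1 : Module.finrank x.asIdeal.ResidueField (x.asIdeal.ResidueField ⊗[A] Q) = 1) :
    ∃ (q : Q) (a : A), a ∉ x.asIdeal ∧ ∀ y : Q, a • y ∈ Submodule.span A {q} := by
  let K := x.asIdeal.ResidueField
  obtain ⟨v, hv⟩ : ∃ y : Q, (1 : K) ⊗ₜ[A] y ≠ 0 := by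
    by_contra hc
    push Not at hc
    have h0 : ∀ z : K ⊗[A] Q, z = 0 := fun z => by
      induction z using TensorProduct.induction_on with
      | zero => rfl
      | tmul c y => rw [show c ⊗ₜ[A] y = c • ((1 : K) ⊗ₜ[A] y) by
          rw [TensorProduct.smul_tmul', smul_eq_mul, mul_one], hc, smul_zero]
      | add a b ha hb => rw [ha, hb, add_zero]
    haveI : Subsingleton (K ⊗[A] Q) := ⟨fun a b => (h0 a).trans (h0 b).symm⟩
    rw [Module.finrank_zero_of_subsingleton] at h1
    exact zero_ne_one h1
  let N := Q ⧸ Submodule.span A {v}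
  let π : Q →ₗ[A] N := Submodule.mkQ _
  have hx : x ∉ Module.support A N := by
    intro hx
    haveI := (Module.mem_support_iff_nontrivial_residueField_tensorProduct x).1 hx
    obtain ⟨w, hw⟩ := exists_ne (0 : K ⊗[A] N)
    obtain ⟨z, rfl⟩ := LinearMap.lTensor_surjective K (Submodule.mkQ_surjective (Submodule.span A {v})) w
    obtain ⟨c, rfl⟩ := exists_smul_eq_of_finrank_eq_one h1 hv z
    apply hw
    rw [TensorProduct.smul_tmul', LinearMap.lTensor_tmul, Submodule.mkQ_apply,
      (Submodule.Quotient.mk_eq_zero _).2 (Submodule.mem_span_singleton_self v), TensorProduct.tmul_zero]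
  rw [Module.support_eq_zeroLocus, PrimeSpectrum.mem_zeroLocus, Set.not_subset] at hx
  obtain ⟨a, ha, hax⟩ := hx
  exact ⟨v, a, hax, fun y => (Submodule.Quotient.mk_eq_zero _).1 (Module.mem_annihilator.1 ha (π y))⟩

/-- The annihilator dies in `B` if `B ⊗ Q` is projective with nonzero fibres. -/
theorem annihilator_le_ker [Module.Projective B (B ⊗[A] Q)]
    (h1 : ∀ y : PrimeSpectrum B, PrimeSpectrum.comap (algebraMap A B) y ∈ Module.support A Q) :
    Module.annihilator A Q ≤ RingHom.ker (algebraMap A B) := by
  intro a ha
  refine RingHom.mem_ker.2 (eq_zero_of_localization _ fun J hJ => ?_)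
  let y : PrimeSpectrum B := ⟨J, hJ.isPrime⟩
  let L := Localization.AtPrime J
  haveI : Module.Projective L (L ⊗[A] Q) :=
    Module.Projective.of_equiv (TensorProduct.AlgebraTensorModule.cancelBaseChange A B L L Q)
  haveI : Module.Free L (L ⊗[A] Q) := Module.free_of_flat_of_isLocalRing
  haveI : Nontrivial (L ⊗[A] Q) := by
    haveI := (Module.mem_support_iff_nontrivial_residueField_tensorProduct _).1 (h1 y)
    let K' := J.ResidueField
    let p := (PrimeSpectrum.comap (algebraMap A B) y).asIdeal
    by_contra hc
    rw [not_nontrivial_iff_subsingleton] at hc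
    haveI : Subsingleton (L ⊗[A] Q) := hc
    haveI : Subsingleton (K' ⊗[A] Q) :=
      (TensorProduct.AlgebraTensorModule.cancelBaseChange A L K' K' Q).symm.toEquiv.subsingleton
    let φ := Ideal.ResidueField.map p J (algebraMap A B) rfl
    letI : Algebra p.ResidueField K' := φ.toAlgebra
    haveI : IsScalarTower A p.ResidueField K' := IsScalarTower.of_algebraMap_eq fun c => by
      refine Eq.trans ?_ (Ideal.ResidueField.map_algebraMap p J (algebraMap A B) rfl c).symm
      exact IsScalarTower.algebraMap_apply A B K' c
    haveI : Subsingleton (K' ⊗[p.ResidueField] (p.ResidueField ⊗[A] Q)) :=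
      (TensorProduct.AlgebraTensorModule.cancelBaseChange A p.ResidueField K' K' Q).toEquiv.subsingleton
    exact not_subsingleton (p.ResidueField ⊗[A] Q)
      (Module.FaithfullyFlat.lTensor_reflects_triviality (R := p.ResidueField) K' _)
  obtain ⟨i⟩ := (inferInstance : Nonempty (Module.Free.ChooseBasisIndex L (L ⊗[A] Q)))
  let b := Module.Free.chooseBasis L (L ⊗[A] Q)
  have hb : algebraMap A L a • b i = 0 := by
    rw [algebraMap_smul]
    induction b i using TensorProduct.induction_on with
    | zero => rw [smul_zero]
    | tmul c y => rw [TensorProduct.smul_tmul', TensorProduct.smul_tmul, Module.mem_annihilator.1 ha y,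
        TensorProduct.tmul_zero]
    | add u v hu hv => rw [smul_add, hu, hv, add_zero]
  rw [← IsScalarTower.algebraMap_apply A B L]
  have := congrArg (fun z => b.repr z i) hb
  simpa [-algebraMap_smul] using this

/-- Conversely, with one-dimensional fibres, `B ⊗ Q` is flat. -/
theorem flat_of_annihilator_le_ker (hle : Module.annihilator A Q ≤ RingHom.ker (algebraMap A B))
    (h1 : ∀ y : PrimeSpectrum B, Module.finrank (PrimeSpectrum.comap (algebraMap A B) y).asIdeal.ResidueField
      ((PrimeSpectrum.comap (algebraMap A B) y).asIdeal.ResidueField ⊗[A] Q) = 1) :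
    Module.Flat B (B ⊗[A] Q) := by
  refine Module.flat_of_localized_maximal _ fun J hJ => ?_
  let y : PrimeSpectrum B := ⟨J, hJ.isPrime⟩
  let L := Localization.AtPrime J
  obtain ⟨v, a, ha, hspan⟩ := exists_generator Q _ (h1 y)
  have hu : IsUnit (algebraMap A L a) := by
    rw [IsScalarTower.algebraMap_apply A B L]
    exact IsLocalization.map_units L (⟨algebraMap A B a, ha⟩ : J.primeCompl)
  have hv0 : ∀ c : A, c • v = 0 → algebraMap A L c = 0 := fun c hc => by
    have hmem : c * a ∈ Module.annihilator A Q := Module.mem_annihilator.2 fun z => by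
      obtain ⟨d, hd⟩ := Submodule.mem_span_singleton.1 (hspan z)
      rw [mul_smul, ← hd, smul_comm, hc, smul_zero]
    refine (hu.mul_left_eq_zero).1 ?_
    rw [← map_mul, IsScalarTower.algebraMap_apply A B L, RingHom.mem_ker.1 (hle hmem), map_zero]
  choose d hd using fun z => Submodule.mem_span_singleton.1 (hspan z)
  let ψ : Q →ₗ[A] L :=
    { toFun := fun z => algebraMap A L (d z) * ↑hu.unit⁻¹
      map_add' := fun z w => by
        rw [← add_mul, ← map_add]
        congr 1
        refine sub_eq_zero.1 ?_
        rw [← map_sub]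
        refine hv0 _ ?_
        rw [sub_smul, add_smul, hd, hd, hd, smul_add, sub_self]
      map_smul' := fun c z => by
        rw [RingHom.id_apply, Algebra.smul_def, ← mul_assoc, ← map_mul]
        congr 1
        refine sub_eq_zero.1 ?_
        rw [← map_sub]
        refine hv0 _ ?_
        rw [sub_smul, mul_smul, hd, hd, smul_comm, sub_self] }
  have hψ : ∀ z, ψ z • ((1 : L) ⊗ₜ[A] v) = (1 : L) ⊗ₜ[A] z := fun z => by
    show (algebraMap A L (d z) * ↑hu.unit⁻¹) • _ = _
    rw [mul_comm, mul_smul, algebraMap_smul, TensorProduct.smul_tmul', TensorProduct.smul_tmul, hd,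
      ← TensorProduct.smul_tmul, ← TensorProduct.smul_tmul', ← algebraMap_smul L a ((1 : L) ⊗ₜ[A] z), smul_smul,
      IsUnit.val_inv_mul, one_smul]
  let e : L ⊗[A] Q ≃ₗ[L] L := LinearEquiv.ofLinearMap (ψ.liftBaseChange L) (LinearMap.toSpanSingleton L _ (1 ⊗ₜ v))
    (LinearMap.ext_ring (by
      rw [LinearMap.comp_apply, LinearMap.toSpanSingleton_apply, one_smul, LinearMap.liftBaseChange_tmul, one_smul]
      show algebraMap A L (d v) * ↑hu.unit⁻¹ = 1
      have : algebraMap A L (d v) = algebraMap A L a := sub_eq_zero.1 (by
        rw [← map_sub]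
        exact hv0 _ (by rw [sub_smul, hd, sub_self]))
      rw [this]
      exact hu.mul_val_inv))
    (LinearMap.ext fun z => by
      induction z using TensorProduct.induction_on with
      | zero => simp
      | tmul c z =>
        rw [LinearMap.comp_apply, LinearMap.liftBaseChange_tmul, map_smul, LinearMap.toSpanSingleton_apply, hψ,
          TensorProduct.smul_tmul', smul_eq_mul, mul_one]
        rfl
      | add u w hu hw => rw [map_add, map_add, hu, hw])
  let e' : LocalizedModule J.primeCompl (B ⊗[A] Q) ≃ₗ[L] L :=
    (LocalizedModule.equivTensorProduct J.primeCompl (B ⊗[A] Q)).trans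
      ((TensorProduct.AlgebraTensorModule.cancelBaseChange A B L L Q).trans e)
  haveI : Module.Flat B L := IsLocalization.flat L J.primeCompl
  exact Module.Flat.of_linearEquiv (e'.restrictScalars B)

end Module

end Groth.Agent.Seesaw13
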